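import Groth.Agent.SSMod.K62.DescMain
import Groth.Agent.SSMod.K122.Plan
import Groth.Agent.SemiFact.K793.NodalFib
import Groth.Agent.S0119

/-!
# S15281 from the algebraically closed case
-/

set_option autoImplicit false
universe u

open CategoryTheory CategoryTheory.Limits AlgebraicGeometry K971

namespace K62.Frob

open TExt DescStable

theorem isReduced_of_generic {C S : Scheme.{u}} [IsIntegral S] (φ : C ⟶ S) [Flat φ]
    (h : AlgebraicGeometry.IsReduced (pullback φ (S.fromSpecStalk (genericPoint S)))) :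
    AlgebraicGeometry.IsReduced C := by
  have H := IsPullback.of_hasPullback φ (S.fromSpecStalk (genericPoint S))
  have h1 := K263.GenFibre.quasiCompact H
  have h2 := K263.GenFibre.dominant_of_flat H
  exact IsSchemeTheoreticallyDominant.isReduced (pullback.fst φ (S.fromSpecStalk (genericPoint S)))

theorem isReduced_of_nodal {C S : Scheme.{u}} [IsIntegral S] (φ : C ⟶ S) (h : Curv2.IsNodalFamily φ) :
    AlgebraicGeometry.IsReduced C := by
  have h0 := K793.NodalFib.isReduced_fiber φ h (genericPoint S)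
  have h1 : Flat φ := h.1
  have h2 : QuasiCompact (S.fromSpecResidueField (genericPoint S)) := by
    have : Finite (Spec (S.residueField (genericPoint S))) :=
      inferInstanceAs (Finite (PrimeSpectrum (S.residueField (genericPoint S))))
    exact ⟨fun U _ _ => Set.Finite.isCompact (Set.toFinite _)⟩
  have h3 : IsDominant (S.fromSpecResidueField (genericPoint S)) := by
    refine ⟨?_⟩
    rw [DenseRange, dense_iff_closure_eq, Scheme.range_fromSpecResidueField]
    exact genericPoint_closure _
  have h4 : IsSchemeTheoreticallyDominant (S.fromSpecResidueField (genericPoint S)) := .of_isDominant _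
  have h5 : IsPullback (φ.fiberι (genericPoint S)) (φ.fiberToSpecResidueField (genericPoint S)) φ
      (S.fromSpecResidueField (genericPoint S)) := IsPullback.of_hasPullback _ _
  have h6 : IsSchemeTheoreticallyDominant (φ.fiberι (genericPoint S)) :=
    IsSchemeTheoreticallyDominant.of_isPullback h5.flip
  have h7 : QuasiCompact (φ.fiberι (genericPoint S)) := MorphismProperty.of_isPullback h5.flip h2
  exact IsSchemeTheoreticallyDominant.isReduced (φ.fiberι (genericPoint S))

theorem isReduced_of_etale {C S : Scheme.{u}} (φ : C ⟶ S) [Etale φ] [IsLocallyNoetherian S]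
    [AlgebraicGeometry.IsReduced S] : AlgebraicGeometry.IsReduced C := by
  have : ∀ x : C, _root_.IsReduced (C.presheaf.stalk x) := fun x => by
    rw [Groth.Agent.S0119.result φ x]
    infer_instance
  exact isReduced_of_isReduced_stalk _

theorem bc_sq {S T C CT E E' : Scheme.{u}} {t : T ⟶ S} {φ : C ⟶ S} {c : CT ⟶ C} {φT : CT ⟶ T}
    (sq : IsPullback c φT φ t) {e : E ⟶ S} {e' : E' ⟶ T} {κ : E' ⟶ E} (he : e' ≫ t = κ ≫ e) :
    ∃ p : pullback φT e' ⟶ pullback φ e, p ≫ pullback.fst φ e = pullback.fst φT e' ≫ c ∧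
      IsPullback p (pullback.snd φT e') (pullback.snd φ e) κ := by
  have h1 := (IsPullback.of_hasPullback φT e').paste_horiz sq
  rw [he] at h1
  have h2 := IsPullback.of_hasPullback φ e
  let p : pullback φT e' ⟶ pullback φ e := h2.lift (pullback.fst φT e' ≫ c) (pullback.snd φT e' ≫ κ) (by
    rw [h1.w, Category.assoc])
  have hp1 : p ≫ pullback.fst φ e = pullback.fst φT e' ≫ c := h2.lift_fst _ _ _
  have hp2 : p ≫ pullback.snd φ e = pullback.snd φT e' ≫ κ := h2.lift_snd _ _ _
  exact ⟨p, hp1, IsPullback.of_right (by rwa [hp1]) hp2 h2⟩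

theorem bc_sqi {S T C CT E E' D DT : Scheme.{u}} {t : T ⟶ S} {φ : C ⟶ S} {c : CT ⟶ C} {φT : CT ⟶ T}
    (sq : IsPullback c φT φ t) {i : D ⟶ C} {iT : DT ⟶ CT} {d : DT ⟶ D} (sqi : IsPullback d iT i c)
    {e : E ⟶ S} {e' : E' ⟶ T} {κ : E' ⟶ E} (he : e' ≫ t = κ ≫ e)
    {p : pullback φT e' ⟶ pullback φ e} (hp : p ≫ pullback.fst φ e = pullback.fst φT e' ≫ c)
    (sqp : IsPullback p (pullback.snd φT e') (pullback.snd φ e) κ) :
    ∃ pD : pullback (iT ≫ φT) e' ⟶ pullback (i ≫ φ) e,
      IsPullback pD (CInt.baseChangeOver iT φT e') (CInt.baseChangeOver i φ e) p := by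
  obtain ⟨pD, hpD, sqpD⟩ := bc_sq (sqi.paste_vert sq) he
  refine ⟨pD, IsPullback.of_bot (v₂₁ := pullback.snd _ _) (v₂₂ := pullback.snd _ _) (h₃₁ := κ) ?_ ?_ sqp⟩
  · rw [SSRestrict.baseChangeOver_snd, SSRestrict.baseChangeOver_snd]
    exact sqpD
  · apply pullback.hom_ext
    · rw [Category.assoc, SSRestrict.baseChangeOver_fst, reassoc_of% hpD, Category.assoc, hp,
        ← Category.assoc (CInt.baseChangeOver iT φT e'), SSRestrict.baseChangeOver_fst, Category.assoc, sqi.w]
    · rw [Category.assoc, SSRestrict.baseChangeOver_snd, sqpD.w, Category.assoc, sqp.w,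
        ← Category.assoc, SSRestrict.baseChangeOver_snd]

theorem isReduced_marked {S C D : Scheme.{u}} [IsIntegral S] (φ : C ⟶ S) (i : D ⟶ C) [Flat (i ≫ φ)]
    (h : SSMod.IsSemistable (pullback.snd φ (S.fromSpecStalk (genericPoint S)))
      (CInt.baseChangeOver i φ (S.fromSpecStalk (genericPoint S)))) : AlgebraicGeometry.IsReduced D := by
  refine isReduced_of_generic (i ≫ φ) ?_
  have h2 := h.2.2.1
  rw [SSRestrict.baseChangeOver_snd] at h2
  have h3 : IsLocallyNoetherian (Spec (S.presheaf.stalk (genericPoint S))) := by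
    have : IsNoetherianRing (S.functionField) := inferInstance
    exact (inferInstance : IsLocallyNoetherian (Spec (S.functionField)))
  exact isReduced_of_etale (pullback.snd (i ≫ φ) (S.fromSpecStalk (genericPoint S)))

/-- **(N2)**: S15281 from the algebraically closed case. -/
theorem frob : K122.Plan.Frob.{u} := by
  intro hSA R _ _ _ _ _ C D φ i hC _ _ hη
  let K := FractionRing R
  let L := AlgebraicClosure K
  let Ra := integralClosure R L
  have hval : ValuationRing Ra := K263.RFSep.valuationRing R K L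
  have hfin : Finite (PrimeSpectrum Ra) := K263.RFSep.finite_primeSpectrum R K L
  have hfr : IsFractionRing Ra L := K263.RFSep.isFractionRing R K L
  have hac : IsAlgClosed (FractionRing Ra) := IsAlgClosed.of_ringEquiv L _ (FractionRing.algEquiv Ra L).symm.toRingEquiv
  let t := Spec.map (CommRingCat.ofHom (algebraMap R Ra))
  have ht : Good t := TExt.good R K L
  have sq : IsPullback (pullback.fst φ t) (pullback.snd φ t) φ t := IsPullback.of_hasPullback _ _
  have sqi := SSRestrict.isPullback_baseChangeOver i φ t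
  have hMP : SSMod.IsMPCurve (pullback.snd φ t) (CInt.baseChangeOver i φ t) :=
    SSBaseChange.isMPCurve_of_isPullback hC sq sqi
  obtain ⟨κ, hκ⟩ := ht.gpb
  obtain ⟨p, hp, sqp⟩ := bc_sq sq hκ.w
  obtain ⟨pD, sqpD⟩ := bc_sqi sq sqi hκ.w hp sqp
  have hss := SSBaseChange.isSemistable_of_isPullback hη sqp sqpD
  have r1 : AlgebraicGeometry.IsReduced (pullback φ t) := by
    have h1 : Flat (pullback.snd φ t) := hMP.1
    exact isReduced_of_generic (pullback.snd φ t) (isReduced_of_nodal _ hss.2.1)
  have r2 : AlgebraicGeometry.IsReduced (pullback (i ≫ φ) t) := by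
    have h1 : Flat (CInt.baseChangeOver i φ t ≫ pullback.snd φ t) := hMP.2.2.2.2.2.2.1
    exact isReduced_marked (pullback.snd φ t) (CInt.baseChangeOver i φ t) hss
  obtain ⟨XT, YT, jT, fCT, fDT, hst, hηC, hηD⟩ := hSA Ra (pullback.snd φ t) (CInt.baseChangeOver i φ t) hMP hss
  exact DescStable.descend_stable ht hC sq sqi hst hηC hηD

end K62.Frob
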