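import Groth.Agent.SSMod.K62.GlueSch
import Mathlib.AlgebraicGeometry.Sites.Fpqc

/-!
# Descent along a dense homeomorphic extension: the cartesian squares and the glued scheme
-/

set_option autoImplicit false
universe u

open CategoryTheory CategoryTheory.Limits AlgebraicGeometry TopologicalSpace

namespace K62.GlueSch

namespace Sit

variable (D : Sit.{u})

instance : QuasiCompact D.t := inferInstance

theorem isAffineOpen_V {U : D.X.Opens} (hU : IsAffineOpen U) : IsAffineOpen (D.V U) := by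
  have h1 : IsAffineOpen (D.jX ⁻¹ᵁ U) := hU.preimage D.jX
  rw [← D.preimage_V] at h1
  have h2 := isPullback_morphismRestrict D.ρ (D.V U)
  have h3 : IsPullback (D.ρ ∣_ D.V U) ((D.ρ ⁻¹ᵁ D.V U).ι ≫ D.jX ≫ D.f ≫ D.φT) ((D.V U).ι ≫ D.jC ≫ D.φ) D.t := by
    have h4 := h2.paste_vert D.hρ
    exact h4
  have h5 : IsAffineHom ((D.ρ ⁻¹ᵁ D.V U).ι ≫ D.jX ≫ D.f ≫ D.φT) := by
    have : IsAffine (D.ρ ⁻¹ᵁ D.V U) := h1
    infer_instance
  have hd := Groth.Agent.S0082.result.{u}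
  have h6 : IsAffineHom ((D.V U).ι ≫ D.jC ≫ D.φ) :=
    MorphismProperty.of_isPullback_of_descendsAlong (P := @IsAffineHom)
      (Q := @Surjective ⊓ @Flat ⊓ @QuasiCompact) h3.flip ⟨⟨D.surjt, D.flatt⟩, inferInstance⟩ h5
  exact isAffine_of_isAffineHom ((D.V U).ι ≫ D.jC ≫ D.φ)

theorem w' : D.jX ≫ (D.f ≫ D.c) ≫ D.φ = D.ρ ≫ D.jC ≫ D.φ := by
  rw [← Category.assoc D.ρ, D.w]
  simp only [Category.assoc]

theorem fc : (D.f ≫ D.c) ≫ D.φ = (D.f ≫ D.φT) ≫ D.t := by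
  rw [Category.assoc, Category.assoc, D.sqC.w]

instance : Flat ((D.f ≫ D.c) ≫ D.φ) := by
  rw [fc]
  infer_instance

theorem hw (U : D.X.Opens) :
    (D.t.appLE ⊤ ⊤ (by simp) ≫ (D.f ≫ D.φT).appLE ⊤ U (by simp)) ≫ D.jX.appLE U (D.jX ⁻¹ᵁ U) le_rfl =
      (D.jC ≫ D.φ).appLE ⊤ (D.V U) (by simp) ≫ D.ρ.appLE (D.V U) (D.jX ⁻¹ᵁ U) (D.preimage_V U).ge := by
  rw [Scheme.Hom.appLE_comp_appLE, Scheme.Hom.appLE_comp_appLE, Scheme.Hom.appLE_comp_appLE]
  simp only [← fc, w']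

theorem isPushout_ring {U : D.X.Opens} (hU : IsAffineOpen U) :
    IsPushout (D.t.appLE ⊤ ⊤ (by simp))
      (D.lft U (D.t.appLE ⊤ ⊤ (by simp) ≫ (D.f ≫ D.φT).appLE ⊤ U (by simp)) ((D.jC ≫ D.φ).appLE ⊤ (D.V U) (by simp))
        (D.hw U))
      ((D.f ≫ D.φT).appLE ⊤ U (by simp)) (D.pp₁ U) := by
  have hpo := K263.PushBC.isPushout_sections D.hρ (V := ⊤) (V' := ⊤) (O := D.V U) (O' := D.jX ⁻¹ᵁ U)
    (isAffineOpen_top _) (isAffineOpen_top _) (D.isAffineOpen_V hU) (by simp) (by simp)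
    (by rw [D.preimage_V]; simp)
  have hr : (D.jX ≫ D.f ≫ D.φT).appLE ⊤ (D.jX ⁻¹ᵁ U) (by simp) =
      (D.f ≫ D.φT).appLE ⊤ U (by simp) ≫ D.jX.appLE U (D.jX ⁻¹ᵁ U) le_rfl := by
    rw [Scheme.Hom.appLE_comp_appLE]
  rw [hr] at hpo
  have hqc : QuasiCompact D.jX := K263.GenFibre.quasiCompact D.hX
  have hdom : IsSchemeTheoreticallyDominant D.jX := K263.GenFibre.dominant_of_flat D.hX
  refine GlueAlg.isPushout (D.t.appLE ⊤ ⊤ (by simp)).hom ((D.f ≫ D.φT).appLE ⊤ U (by simp)).hom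
    ((D.jC ≫ D.φ).appLE ⊤ (D.V U) (by simp)).hom (D.jj U) (D.kk U) hpo
    (D.t.flat_appLE (isAffineOpen_top _) (isAffineOpen_top _) _) ?_ {d | d ≠ 0} ?_ ?_ (fun x => congr($(D.hw U) x))
  · have h1 := Scheme.Hom.app_injective D.jX U
    rw [Scheme.Hom.app_eq_appLE] at h1
    exact h1
  · intro v
    obtain ⟨r, hr, b, hb⟩ := K263.GenFibre.exists_mul_eq D.hX (isAffineOpen_top D.S) (Set.mem_univ _) hU
      (by simp) (D.kk U v)
    refine ⟨r, hr, b, ?_⟩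
    rw [map_mul]
    rw [Scheme.Hom.app_eq_appLE] at hb
    have h2 : D.jj U (((D.f ≫ D.c) ≫ D.φ).appLE ⊤ U (by simp) r) =
        D.kk U ((D.jC ≫ D.φ).appLE ⊤ (D.V U) (by simp) r) := by
      have h3 := D.hw U
      rw [Scheme.Hom.appLE_comp_appLE] at h3
      simp only [← fc] at h3
      exact congr($(h3) r)
    change D.jj U b = D.kk U ((D.jC ≫ D.φ).appLE ⊤ (D.V U) (by simp) r) * D.kk U v
    rw [← h2]
    exact hb.symm
  · intro x d hd
    exact D.dense x d hd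

/-- The morphism to `C`. -/
theorem exists_s (i : D.J) : ∃ s : D.F.obj i ⟶ D.C, D.α.app i ≫ s = D.gg i ≫ D.f ≫ D.c ∧
    IsPullback (D.α.app i) (D.gg i ≫ D.f) s D.c := by
  obtain ⟨W, hW⟩ := i.2
  let U := D.op i
  have hU : IsAffineOpen U := D.isAffineOpen i
  have h0 : (D.f ≫ D.c).appLE W U hW ≫ D.jX.appLE U (D.jX ⁻¹ᵁ U) le_rfl =
      D.jC.appLE W (D.V U) (D.V_le hW) ≫ D.ρ.appLE (D.V U) (D.jX ⁻¹ᵁ U) (D.preimage_V U).ge := by
    rw [Scheme.Hom.appLE_comp_appLE, Scheme.Hom.appLE_comp_appLE]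
    simp only [D.w]
  let l : Γ(D.C, W) ⟶ D.PP U := D.lft U ((D.f ≫ D.c).appLE W U hW) (D.jC.appLE W (D.V U) (D.V_le hW)) h0
  let s : D.F.obj i ⟶ D.C := Spec.map l ≫ IsAffineOpen.fromSpec W.2
  have h1 : D.α.app i ≫ s = D.gg i ≫ D.f ≫ D.c := by
    change Spec.map (D.pp₁ U) ≫ Spec.map l ≫ _ = _
    rw [← Category.assoc, ← Spec.map_comp, D.lft_pp₁]
    exact IsAffineOpen.SpecMap_appLE_fromSpec (D.f ≫ D.c) W.2 hU hW
  refine ⟨s, h1, ?_⟩
  have hpb := isPullback_SpecMap_of_isPushout _ _ _ _ (D.isPushout_ring hU)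
  have hT : IsIso (isAffineOpen_top D.T).fromSpec := by rw [IsAffineOpen.fromSpec_top]; infer_instance
  have hS : IsIso (isAffineOpen_top D.S).fromSpec := by rw [IsAffineOpen.fromSpec_top]; infer_instance
  have h2 : IsPullback (isAffineOpen_top D.T).fromSpec (Spec.map (D.t.appLE ⊤ ⊤ (by simp))) D.t
      (isAffineOpen_top D.S).fromSpec :=
    IsPullback.of_horiz_isIso ⟨((isAffineOpen_top D.S).SpecMap_appLE_fromSpec D.t (isAffineOpen_top D.T) _).symm⟩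
  have h3 := hpb.flip.paste_vert h2.flip
  have h4 : Spec.map ((D.f ≫ D.φT).appLE ⊤ U (by simp)) ≫ (isAffineOpen_top D.T).fromSpec = (D.gg i ≫ D.f) ≫ D.φT := by
    rw [(isAffineOpen_top D.T).SpecMap_appLE_fromSpec (D.f ≫ D.φT) hU, Category.assoc]
    rfl
  have h5 : Spec.map (D.lft U (D.t.appLE ⊤ ⊤ (by simp) ≫ (D.f ≫ D.φT).appLE ⊤ U (by simp))
      ((D.jC ≫ D.φ).appLE ⊤ (D.V U) (by simp)) (D.hw U)) ≫ (isAffineOpen_top D.S).fromSpec = s ≫ D.φ := by
    have h6 : D.lft U (D.t.appLE ⊤ ⊤ (by simp) ≫ (D.f ≫ D.φT).appLE ⊤ U (by simp))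
        ((D.jC ≫ D.φ).appLE ⊤ (D.V U) (by simp)) (D.hw U) = D.φ.appLE ⊤ W (by simp) ≫ l := by
      refine D.pp_ext ?_ ?_
      · rw [D.lft_pp₁, Category.assoc, D.lft_pp₁, Scheme.Hom.appLE_comp_appLE, Scheme.Hom.appLE_comp_appLE]
        simp only [fc]
      · rw [D.lft_pp₂, Category.assoc, D.lft_pp₂, Scheme.Hom.appLE_comp_appLE]
    rw [h6, Spec.map_comp, Category.assoc, (isAffineOpen_top D.S).SpecMap_appLE_fromSpec D.φ W.2]
    rfl
  rw [h4, h5] at h3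
  have h3' : IsPullback (D.α.app i) ((D.gg i ≫ D.f) ≫ D.φT) (s ≫ D.φ) D.t := h3
  exact (IsPullback.of_right h3'.flip (by rw [Category.assoc, h1]) D.sqC.flip).flip

/-- The morphism to `C`. -/
noncomputable def s (i : D.J) : D.F.obj i ⟶ D.C := (D.exists_s i).choose

theorem α_s (i : D.J) : D.α.app i ≫ D.s i = D.gg i ≫ D.f ≫ D.c := (D.exists_s i).choose_spec.1

theorem isPullback_s (i : D.J) : IsPullback (D.α.app i) (D.gg i ≫ D.f) (D.s i) D.c := (D.exists_s i).choose_spec.2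

instance : Flat D.c := MorphismProperty.of_isPullback D.sqC.flip D.flatt

instance : Surjective D.c := MorphismProperty.of_isPullback D.sqC.flip D.surjt

instance : QuasiCompact D.c := MorphismProperty.of_isPullback D.sqC.flip (inferInstanceAs (QuasiCompact D.t))

instance epi_α (i : D.J) : Epi (D.α.app i) := by
  have h1 : Flat (D.α.app i) := MorphismProperty.of_isPullback (D.isPullback_s i).flip (inferInstanceAs (Flat D.c))
  have h2 : Surjective (D.α.app i) :=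
    MorphismProperty.of_isPullback (D.isPullback_s i).flip (inferInstanceAs (Surjective D.c))
  have h3 : QuasiCompact (D.α.app i) :=
    MorphismProperty.of_isPullback (D.isPullback_s i).flip (inferInstanceAs (QuasiCompact D.c))
  have h4 : EffectiveEpi (D.α.app i) := inferInstance
  infer_instance

theorem map_s {i j : D.J} (a : i ⟶ j) : D.F.map a ≫ D.s j = D.s i := by
  rw [← cancel_epi (D.α.app i), ← Category.assoc, ← D.α.naturality, Category.assoc, D.α_s, D.α_s, ← Category.assoc,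
    D.map_gg]

/-- **The descended scheme.** -/
theorem exists_descent : ∃ (Y : Scheme.{u}) (y : Y ⟶ D.C) (q : D.X ⟶ Y), IsPullback q D.f y D.c := by
  obtain ⟨Y, y, q, _, _, _, _, _, _, _, _, h, _⟩ :=
    Groth.Agent.Sga7.H331.DirGlue.exists_glue D.c D.c D.f D.f D.cov D.cov D.F D.s (fun a => D.map_s a)
      D.α (fun i => D.isPullback_s i) D.α (fun i => D.isPullback_s i)
  exact ⟨Y, y, q, h⟩

end Sit

end K62.GlueSch
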