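import Groth.Agent.SSMod.K62.TExt
import Groth.Agent.SSMod.K62.GlueSch2
import Groth.Agent.SSMod.K971.Basic

/-!
# Descent of modifications which are isomorphisms on generic fibres
-/

set_option autoImplicit false
universe u

open CategoryTheory CategoryTheory.Limits AlgebraicGeometry

namespace K62.Desc

open TExt

variable {S T : Scheme.{u}} [IsIntegral S] [IsIntegral T] {t : T ⟶ S}

theorem isHomeomorph_of_isPullback (ht : Good t) {A B : Scheme.{u}} {ρ : A ⟶ B} {r : A ⟶ T} {g : B ⟶ S}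
    (H : IsPullback ρ r g t) : IsHomeomorph ρ.base := by
  have h1 : IsIntegralHom ρ := MorphismProperty.of_isPullback H.flip ht.int
  have h2 : UniversallyInjective ρ := MorphismProperty.of_isPullback H.flip ht.inj
  have h3 : Surjective ρ := MorphismProperty.of_isPullback H.flip ht.surj
  rw [isHomeomorph_iff_continuous_isClosedMap_bijective]
  exact ⟨ρ.continuous, ρ.isClosedMap, ρ.injective, ρ.surjective⟩

variable [IsAffine S] [IsAffine T] (ht : Good t)
  {C CT X : Scheme.{u}} {φ : C ⟶ S} {c : CT ⟶ C} {φT : CT ⟶ T} (sqC : IsPullback c φT φ t) (f : X ⟶ CT)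

include ht sqC in
/-- The base change of `f` along anything lying over the generic point of `S` is an isomorphism. -/
theorem isIso_of_isEtaIso (hη : SSMod.IsEtaIso φT f) {P Q : Scheme.{u}} {l : Q ⟶ P} {q : Q ⟶ X} {p : P ⟶ CT}
    (sq : IsPullback q l f p) (a : P ⟶ Spec (S.presheaf.stalk (genericPoint S)))
    (ha : p ≫ c ≫ φ = a ≫ S.fromSpecStalk (genericPoint S)) : IsIso l := by
  obtain ⟨κ, hκ⟩ := ht.gpb
  have h1 : (p ≫ φT) ≫ t = a ≫ S.fromSpecStalk (genericPoint S) := by
    rw [Category.assoc, ← sqC.w, ha]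
  exact K971.SSBasic.isIso_of_isEtaIso hη sq (hκ.lift (p ≫ φT) a h1) (hκ.lift_fst _ _ _).symm

include ht sqC in
theorem exists_desc [Flat (f ≫ φT)] (hη : SSMod.IsEtaIso φT f) :
    ∃ (Y : Scheme.{u}) (y : Y ⟶ C) (q : X ⟶ Y), IsPullback q f y c ∧ SSMod.IsEtaIso φ y := by
  have hfl := ht.flat
  have hsu := ht.surj
  have hin := ht.int
  let e := S.fromSpecStalk (genericPoint S)
  let Cη := pullback φ e
  let jC : Cη ⟶ C := pullback.fst φ e
  let qC : Cη ⟶ Spec (S.presheaf.stalk (genericPoint S)) := pullback.snd φ e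
  have hC : IsPullback jC qC φ e := IsPullback.of_hasPullback _ _
  let Xη := pullback ((f ≫ c) ≫ φ) e
  let jX : Xη ⟶ X := pullback.fst ((f ≫ c) ≫ φ) e
  let qX : Xη ⟶ Spec (S.presheaf.stalk (genericPoint S)) := pullback.snd ((f ≫ c) ≫ φ) e
  have hX : IsPullback jX qX ((f ≫ c) ≫ φ) e := IsPullback.of_hasPullback _ _
  let ρ : Xη ⟶ Cη := hC.lift (jX ≫ f ≫ c) qX (by rw [← hX.w, Category.assoc])
  have hρ1 : ρ ≫ jC = jX ≫ f ≫ c := hC.lift_fst _ _ _
  have hρ2 : ρ ≫ qC = qX := hC.lift_snd _ _ _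
  have sqρ : IsPullback jX ρ (f ≫ c) jC := by
    refine IsPullback.of_bot (v₂₁ := qC) (v₂₂ := φ) (h₃₁ := e) ?_ hρ1.symm hC
    rw [hρ2]
    exact hX
  -- the fibre over `C_T`
  let P := pullback c jC
  let p1 : P ⟶ CT := pullback.fst c jC
  let p2 : P ⟶ Cη := pullback.snd c jC
  have hP : IsPullback p1 p2 c jC := IsPullback.of_hasPullback _ _
  let l : Xη ⟶ P := hP.lift (jX ≫ f) ρ (by rw [hρ1, Category.assoc])
  have hl1 : l ≫ p1 = jX ≫ f := hP.lift_fst _ _ _
  have hl2 : l ≫ p2 = ρ := hP.lift_snd _ _ _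
  have sql : IsPullback jX l f p1 := by
    refine IsPullback.of_bot (v₂₁ := p2) (v₂₂ := c) (h₃₁ := jC) ?_ hl1.symm hP
    rw [hl2]
    exact sqρ
  have hl : IsIso l := isIso_of_isEtaIso ht sqC f hη sql (p2 ≫ qC) (by
    rw [← Category.assoc, hP.w, Category.assoc, hC.w, Category.assoc])
  have hPT : IsPullback p2 (p1 ≫ φT) (jC ≫ φ) t := (hP.paste_horiz sqC.flip).flip
  have hρ : IsPullback ρ (jX ≫ f ≫ φT) (jC ≫ φ) t := by
    refine IsPullback.of_iso hPT (asIso l).symm (Iso.refl _) (Iso.refl _) (Iso.refl _) ?_ ?_ ?_ ?_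
    · rw [Iso.symm_hom, asIso_inv, Iso.refl_hom, Category.comp_id, ← hl2, IsIso.inv_hom_id_assoc]
    · rw [Iso.symm_hom, asIso_inv, Iso.refl_hom, Category.comp_id, ← Category.assoc jX, ← hl1, Category.assoc,
        IsIso.inv_hom_id_assoc]
    · simp
    · simp
  have haff : IsAffineHom jX := by
    have : IsAffineHom e := inferInstance
    exact MorphismProperty.of_isPullback hX.flip this
  let D : GlueSch.Sit := {
    S := S, T := T, C := C, CT := CT, X := X, Cη := Cη, Xη := Xη
    φ := φ, t := t, c := c, φT := φT, f := f, jC := jC, jX := jX, ρ := ρ, qX := qX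
    sqC := sqC, hX := hX, w := hρ1, hρ := hρ
    homeo := isHomeomorph_of_isPullback ht hρ
    dense := ht.dense }
  obtain ⟨Y, y, q, hq⟩ := D.exists_descent
  have hq' : IsPullback q f y c := hq
  refine ⟨Y, y, q, hq', ?_⟩
  -- descent of the isomorphism
  change IsIso (pullback.snd y jC)
  have h1 : IsPullback (pullback.fst y jC) (pullback.snd y jC) y jC := IsPullback.of_hasPullback _ _
  let A := pullback (pullback.snd y jC) p2
  have h2 : IsPullback (pullback.fst (pullback.snd y jC) p2) (pullback.snd (pullback.snd y jC) p2)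
      (pullback.snd y jC) p2 := IsPullback.of_hasPullback _ _
  have h3 := h2.paste_horiz h1
  rw [← hP.w] at h3
  have h4 : IsPullback (hq'.lift _ (pullback.snd (pullback.snd y jC) p2 ≫ p1) (by rw [Category.assoc]; exact h3.w))
      (pullback.snd (pullback.snd y jC) p2) f p1 := by
    refine IsPullback.of_right (h₁₂ := q) (h₂₂ := c) ?_ (hq'.lift_snd _ _ _) hq'
    rw [hq'.lift_fst]
    exact h3
  have h5 : IsIso (pullback.snd (pullback.snd y jC) p2) := isIso_of_isEtaIso ht sqC f hη h4 (p2 ≫ qC) (by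
    rw [← Category.assoc, hP.w, Category.assoc, hC.w, Category.assoc])
  have g1 : Flat p2 := MorphismProperty.of_isPullback hPT.flip ht.flat
  have g2 : Surjective p2 := MorphismProperty.of_isPullback hPT.flip ht.surj
  have g3 : QuasiCompact p2 := MorphismProperty.of_isPullback hPT.flip (inferInstanceAs (QuasiCompact t))
  exact MorphismProperty.of_isPullback_of_descendsAlong (P := MorphismProperty.isomorphisms Scheme.{u})
    (Q := @Surjective ⊓ @Flat ⊓ @QuasiCompact) h2.flip ⟨⟨g2, g1⟩, g3⟩ h5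

end K62.Desc
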