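import Groth.Agent.SSMod.K62.DescStable
import Mathlib.AlgebraicGeometry.Sites.Fpqc

/-!
# Descent of stable modifications: the main theorem
-/

set_option autoImplicit false
universe u

open CategoryTheory CategoryTheory.Limits AlgebraicGeometry K971

namespace K62.DescStable

open TExt

variable {S T : Scheme.{u}} [IsIntegral S] [IsIntegral T] [IsAffine S] [IsAffine T] {t : T ⟶ S} (ht : Good t)

include ht in
theorem fp : FP t := ⟨⟨ht.surj, ht.flat⟩, by have := ht.int; infer_instance⟩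

omit [IsIntegral T] [IsAffine S] [IsAffine T] in
theorem exists_hom {C X Y YT : Scheme.{u}} {φ : C ⟶ S} {fC : X ⟶ C} [IsSeparated fC]
    (hη : SSMod.IsEtaIso φ fC) {qY : YT ⟶ Y} (hq : FP qY) (y : Y ⟶ C) [Flat (y ≫ φ)] (e : YT ⟶ X)
    (he : e ≫ fC = qY ≫ y) : ∃ j : Y ⟶ X, qY ≫ j = e ∧ j ≫ fC = y := by
  have h1 : Surjective qY := hq.1.1
  have h2 : Flat qY := hq.1.2
  have h3 : QuasiCompact qY := hq.2
  have hηi : IsIso (pullback.snd fC (pullback.fst φ (S.fromSpecStalk (genericPoint S)))) := hη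
  have key : pullback.fst qY qY ≫ e = pullback.snd qY qY ≫ e := by
    refine K263.EtaUniq.hom_ext φ fC inferInstance (𝟙 S) (by simp)
      (pullback.fst qY qY ≫ qY ≫ y ≫ φ) (pullback.fst qY qY ≫ qY ≫ y) (by simp) _ _ ?_ ?_
    · rw [Category.assoc, he]
    · rw [Category.assoc, he, ← Category.assoc, ← pullback.condition, Category.assoc]
  have heff : EffectiveEpi qY := inferInstance
  refine ⟨EffectiveEpi.desc qY e fun {Z} g₁ g₂ h => ?_, EffectiveEpi.fac _ _ _, ?_⟩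
  · have h4 : g₁ ≫ e = pullback.lift g₁ g₂ h ≫ pullback.fst qY qY ≫ e := by
      rw [pullback.lift_fst_assoc]
    have h5 : g₂ ≫ e = pullback.lift g₁ g₂ h ≫ pullback.snd qY qY ≫ e := by
      rw [pullback.lift_snd_assoc]
    rw [h4, h5, key]
  · rw [← cancel_epi qY, ← Category.assoc, EffectiveEpi.fac, he]

include ht in
theorem descend_stable {C D CT DT XT YT : Scheme.{u}} {φ : C ⟶ S} {i : D ⟶ C} (hC : SSMod.IsMPCurve φ i)
    {c : CT ⟶ C} {φT : CT ⟶ T} (sq : IsPullback c φT φ t) {d : DT ⟶ D} {iT : DT ⟶ CT}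
    (sqi : IsPullback d iT i c) {jT : YT ⟶ XT} {fCT : XT ⟶ CT} {fDT : YT ⟶ DT}
    (hst : SSMod.IsStableModification φT iT jT fCT fDT)
    (hηC : SSMod.IsEtaIso φT fCT) (hηD : SSMod.IsEtaIso (iT ≫ φT) fDT) :
    ∃ (X Y : Scheme.{u}) (j : Y ⟶ X) (fC : X ⟶ C) (fD : Y ⟶ D), SSMod.IsStableModification φ i j fC fD ∧
      SSMod.IsEtaIso φ fC ∧ SSMod.IsEtaIso (i ≫ φ) fD := by
  obtain ⟨⟨⟨hw, hMP, hm1, hm2⟩, hss⟩, hne⟩ := hst
  have hFP := fp ht
  have hfl1 : Flat (fCT ≫ φT) := hMP.1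
  obtain ⟨X, fC, qX, hX, hη1⟩ := Desc.exists_desc ht sq fCT hηC
  have sqD : IsPullback d (iT ≫ φT) (i ≫ φ) t := sqi.paste_vert sq
  have e0 : jT ≫ fCT ≫ φT = fDT ≫ iT ≫ φT := by rw [← Category.assoc, hw, Category.assoc]
  have hfl2 : Flat (fDT ≫ iT ≫ φT) := by
    have h : Flat (jT ≫ fCT ≫ φT) := hMP.2.2.2.2.2.2.1
    rwa [e0] at h
  obtain ⟨Y, fD, qY, hY, hη2⟩ := Desc.exists_desc ht sqD fDT hηD
  have hcFP : FP c := fp_of_isPullback hFP sq
  have hdFP : FP d := fp_of_isPullback hFP sqD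
  have hqY : FP qY := fp_of_isPullback hdFP hY
  have hprop := Groth.Agent.S0086.result.{u}
  have hp1 : IsProper fC :=
    MorphismProperty.of_isPullback_of_descendsAlong (P := @IsProper) hX.flip hcFP hm1.1
  have hp2 : IsProper fD :=
    MorphismProperty.of_isPullback_of_descendsAlong (P := @IsProper) hY.flip hdFP hm2.1
  have hXT : IsPullback qX (fCT ≫ φT) (fC ≫ φ) t := hX.paste_vert sq
  have hYT : IsPullback qY (fDT ≫ iT ≫ φT) (fD ≫ i ≫ φ) t := hY.paste_vert sqD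
  have d1 := Groth.Agent.S1594.flat_descends.{u}
  have hflX : Flat (fC ≫ φ) :=
    MorphismProperty.of_isPullback_of_descendsAlong (P := @Flat) hXT.flip hFP hfl1
  have hflY : Flat ((fD ≫ i) ≫ φ) := by
    rw [Category.assoc]
    exact MorphismProperty.of_isPullback_of_descendsAlong (P := @Flat) hYT.flip hFP hfl2
  obtain ⟨j, hj, hj'⟩ := exists_hom hη1 hqY (fD ≫ i) (jT ≫ qX) (by
    rw [Category.assoc, hX.w, ← Category.assoc, hw, Category.assoc, ← sqi.w, ← Category.assoc, ← hY.w,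
      Category.assoc])
  have hsqj : IsPullback qY jT j qX := by
    refine IsPullback.of_bot (v₂₁ := fCT ≫ φT) (v₂₂ := fC ≫ φ) (h₃₁ := t) ?_ hj hXT
    rw [e0]
    have e1 : j ≫ fC ≫ φ = fD ≫ i ≫ φ := by rw [← Category.assoc, hj', Category.assoc]
    rw [e1]
    exact hYT
  have hMPd : SSMod.IsMPCurve (fC ≫ φ) j := isMPCurve_descend hFP hXT hsqj hMP
  have l1 : LocallyOfFinitePresentation φ := hC.2.1
  have l2 : LocallyOfFinitePresentation (i ≫ φ) := hC.2.2.2.2.2.2.2.1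
  have l3 : LocallyOfFinitePresentation (fC ≫ φ) := hMPd.2.1
  have l4 : LocallyOfFinitePresentation (fD ≫ i ≫ φ) := by
    have h : LocallyOfFinitePresentation (j ≫ fC ≫ φ) := hMPd.2.2.2.2.2.2.2.1
    rwa [← Category.assoc, hj', Category.assoc] at h
  have l5 : LocallyOfFinitePresentation fC := Groth.Agent.Ega43.FPOfComp.locallyOfFinitePresentation_of_comp fC φ
  have l6 : LocallyOfFinitePresentation fD :=
    Groth.Agent.Ega43.FPOfComp.locallyOfFinitePresentation_of_comp fD (i ≫ φ)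
  have f1 : Flat φ := hC.1
  have f2 : Flat (i ≫ φ) := hC.2.2.2.2.2.2.1
  have f3 : Flat (fD ≫ i ≫ φ) := by rwa [Category.assoc] at hflY
  have q1 : IsPullback (𝟙 C) φ φ (𝟙 S) := IsPullback.of_horiz_isIso ⟨by simp⟩
  have q2 : IsPullback (𝟙 X) fC fC (𝟙 C) := IsPullback.of_horiz_isIso ⟨by simp⟩
  have q3 : IsPullback (𝟙 D) (i ≫ φ) (i ≫ φ) (𝟙 S) := IsPullback.of_horiz_isIso ⟨by simp⟩
  have q4 : IsPullback (𝟙 Y) fD fD (𝟙 D) := IsPullback.of_horiz_isIso ⟨by simp⟩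
  have m1 : SSMod.IsModification fC :=
    EtaNbhd.isModification_baseChange hη1 (t := 𝟙 S) (by simp) q1 q2
  have m2 : SSMod.IsModification fD :=
    EtaNbhd.isModification_baseChange hη2 (t := 𝟙 S) (by simp) q3 q4
  have hssd : SSMod.IsSemistable (fC ≫ φ) j :=
    isSemistable_descend hFP hXT hsqj (Desc.isHomeomorph_of_isPullback ht hXT) hss
  have i1 := ht.int
  have i2 := ht.surj
  have hne' : SSMod.NoExcComp φ j fC :=
    noExcComp_descend sq hX (SSRestrict.range_of_isPullback hsqj.flip) hne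
  exact ⟨X, Y, j, fC, fD, ⟨⟨⟨hj', hMPd, m1, m2⟩, hssd⟩, hne'⟩, hη1, hη2⟩

end K62.DescStable
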