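import Groth.Agent.SSMod.K62.Desc
import Groth.Agent.SSMod.K971.StableBC
import Groth.Agent.EtAcyc.K548.Radicial
import Groth.Agent.S9857
import Groth.Agent.S1594
import Groth.Agent.S0079
import Groth.Agent.S0080
import Groth.Agent.S0081
import Groth.Agent.S0083
import Groth.Agent.S0086

/-!
# Descent of stable modifications
-/

set_option autoImplicit false
universe u

open CategoryTheory CategoryTheory.Limits AlgebraicGeometry K971

namespace K62.DescStable

open TExt

/-- The fpqc property. -/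
abbrev FP : MorphismProperty Scheme.{u} := @Surjective ⊓ @Flat ⊓ @QuasiCompact

section general

variable {S T : Scheme.{u}} {t : T ⟶ S}

theorem fp_of_isPullback (h : FP t) {A B : Scheme.{u}} {p : A ⟶ B} {q : A ⟶ T} {g : B ⟶ S}
    (sq : IsPullback p q g t) : FP p :=
  ⟨⟨MorphismProperty.of_isPullback sq.flip h.1.1, MorphismProperty.of_isPullback sq.flip h.1.2⟩,
    MorphismProperty.of_isPullback sq.flip h.2⟩

theorem isNodalFamily_descend (h : FP t) {C CT : Scheme.{u}} {φ : C ⟶ S} {c : CT ⟶ C} {φT : CT ⟶ T}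
    (sq : IsPullback c φT φ t) (hn : Curv2.IsNodalFamily φT) : Curv2.IsNodalFamily φ := by
  have h1 : Surjective t := h.1.1
  have h2 : Flat t := h.1.2
  have h3 : QuasiCompact t := h.2
  refine Groth.Agent.S1594.result φ t ?_
  have h4 : IsPullback sq.isoPullback.inv (pullback.snd φ t) φT (𝟙 T) :=
    IsPullback.of_horiz_isIso ⟨by rw [Category.comp_id, sq.isoPullback_inv_snd]⟩
  exact Groth.Agent.Sga7.H734.NodalBC.isNodalFamily_of_isPullback h4 hn

theorem isMPCurve_descend (h : FP t) {C D CT DT : Scheme.{u}} {φ : C ⟶ S} {i : D ⟶ C} {c : CT ⟶ C} {φT : CT ⟶ T}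
    (sq : IsPullback c φT φ t) {d : DT ⟶ D} {iT : DT ⟶ CT} (sqi : IsPullback d iT i c)
    (hT : SSMod.IsMPCurve φT iT) : SSMod.IsMPCurve φ i := by
  obtain ⟨h1, h2, h3, h4, h5, h6, h7, h8, h9⟩ := hT
  have i1 : Surjective t := h.1.1
  have i2 : Flat t := h.1.2
  have i3 : QuasiCompact t := h.2
  have sq2 := sqi.paste_vert sq
  have hc : FP c := fp_of_isPullback h sq
  have d1 := Groth.Agent.S1594.flat_descends.{u}
  have d2 := Groth.Agent.S0079.result.{u}
  have d3 := Groth.Agent.S0080.result.{u}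
  have d4 := Groth.Agent.S0083.result.{u}
  have l1 : LocallyOfFinitePresentation φ :=
    MorphismProperty.of_isPullback_of_descendsAlong (P := @LocallyOfFinitePresentation) sq.flip h h2
  have l2 : LocallyOfFinitePresentation (i ≫ φ) :=
    MorphismProperty.of_isPullback_of_descendsAlong (P := @LocallyOfFinitePresentation) sq2.flip h h8
  exact ⟨MorphismProperty.of_isPullback_of_descendsAlong (P := @Flat) sq.flip h h1, l1,
    MorphismProperty.of_isPullback_of_descendsAlong (P := @QuasiCompact) sq.flip h h3,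
    MorphismProperty.of_isPullback_of_descendsAlong (P := @QuasiSeparated) sq.flip h h4,
    Groth.Agent.S9857.result φ t c φT sq 1 h5,
    MorphismProperty.of_isPullback_of_descendsAlong (P := @IsClosedImmersion) sqi.flip hc h6,
    MorphismProperty.of_isPullback_of_descendsAlong (P := @Flat) sq2.flip h h7, l2,
    Groth.Agent.S9857.result (i ≫ φ) t d (iT ≫ φT) sq2 0 h9⟩

/-- Smoothness at a point descends along a base change which is a homeomorphism. -/
theorem nonsmoothPts_descend (h : FP t) {C CT : Scheme.{u}} {φ : C ⟶ S} [LocallyOfFinitePresentation φ]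
    {c : CT ⟶ C} {φT : CT ⟶ T} (sq : IsPullback c φT φ t) (hc : IsHomeomorph c.base) (x : CT)
    (hx : c x ∈ DualGr.nonsmoothPts φ) : x ∈ DualGr.nonsmoothPts φT := by
  intro hx'
  apply hx
  have hf : LocallyOfFinitePresentation φT := MorphismProperty.of_isPullback sq ‹_›
  obtain ⟨U, hU, hs⟩ := (Groth.Agent.UnramA.NearPoint.exists_smooth_nhd_iff φT x).2 hx'
  let V : C.Opens := ⟨c.base '' (U : Set CT), hc.isOpenMap _ U.isOpen⟩
  have hV : c ⁻¹ᵁ V = U := by
    ext z
    constructor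
    · rintro ⟨y, hy, hyz⟩
      have := hc.injective hyz
      rw [← this]; exact hy
    · intro hz
      exact ⟨z, hz, rfl⟩
  refine (Groth.Agent.UnramA.NearPoint.exists_smooth_nhd_iff φ (c x)).1 ⟨V, ⟨x, hU, rfl⟩, ?_⟩
  have h1 : IsPullback (c ∣_ V) ((c ⁻¹ᵁ V).ι ≫ φT) (V.ι ≫ φ) t := (isPullback_morphismRestrict c V).flip.flip.paste_vert sq
  have hs' : Smooth ((c ⁻¹ᵁ V).ι ≫ φT) := by rw [hV]; exact hs
  exact MorphismProperty.of_isPullback_of_descendsAlong (P := @Smooth) h1.flip h hs'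

theorem isSemistable_descend (h : FP t) {C D CT DT : Scheme.{u}} {φ : C ⟶ S} {i : D ⟶ C} {c : CT ⟶ C}
    {φT : CT ⟶ T} (sq : IsPullback c φT φ t) {d : DT ⟶ D} {iT : DT ⟶ CT} (sqi : IsPullback d iT i c)
    (hc : IsHomeomorph c.base) (hT : SSMod.IsSemistable φT iT) : SSMod.IsSemistable φ i := by
  obtain ⟨h1, h2, h3, h4⟩ := hT
  have hmp := isMPCurve_descend h sq sqi h1
  have hlfp := hmp.2.1
  refine ⟨hmp, isNodalFamily_descend h sq h2,
    MorphismProperty.of_isPullback_of_descendsAlong (P := @Etale) (sqi.paste_vert sq).flip h h3, ?_⟩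
  rw [Set.disjoint_left]
  rintro _ ⟨y, rfl⟩ hy
  have hd : FP d := fp_of_isPullback (fp_of_isPullback h sq) sqi
  obtain ⟨z, rfl⟩ := hd.1.1.surj y
  refine Set.disjoint_left.1 h4 ⟨z, rfl⟩ (nonsmoothPts_descend h sq hc _ ?_)
  have h5 : i (d z) = c (iT z) := by
    rw [← Scheme.Hom.comp_apply, ← Scheme.Hom.comp_apply, sqi.w]
  rw [← h5]
  exact hy

/-- Absence of exceptional components descends along a surjective integral base change. -/
theorem noExcComp_descend [IsIntegralHom t] [Surjective t] {C CT C' CT' D' DT' : Scheme.{u}} {φ : C ⟶ S}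
    [LocallyOfFiniteType φ] {fC : C' ⟶ C} [IsProper fC] {i' : D' ⟶ C'} {c : CT ⟶ C} {φT : CT ⟶ T}
    (sq : IsPullback c φT φ t) {p' : CT' ⟶ C'} {fT : CT' ⟶ CT} (sqC : IsPullback p' fT fC c)
    {iT : DT' ⟶ CT'} (hr : Set.range iT.base = p'.base ⁻¹' Set.range i'.base)
    (h : SSMod.NoExcComp φT iT fT) : SSMod.NoExcComp φ i' fC := by
  intro Ω _ _ g₀ Z hZ hexc
  obtain ⟨g, rfl⟩ := K548.Radicial.exists_lift_of_isIntegralHom t Ω g₀
  have s1 : IsPullback (pullback.fst (fT ≫ φT) g ≫ p') (pullback.snd (fT ≫ φT) g) (fC ≫ φ)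
      (g ≫ t) := by
    have h1 := (IsPullback.of_hasPullback (fT ≫ φT) g).flip.paste_vert (sqC.paste_vert sq).flip
    exact h1.flip
  have s2 : IsPullback (pullback.fst φT g ≫ c) (pullback.snd φT g) φ (g ≫ t) := by
    have h1 := (IsPullback.of_hasPullback φT g).flip.paste_vert sq.flip
    exact h1.flip
  let J' : pullback (fT ≫ φT) g ⟶ pullback (fC ≫ φ) (g ≫ t) := s1.isoPullback.hom
  have hJ'1 : J' ≫ pullback.fst (fC ≫ φ) (g ≫ t) = pullback.fst (fT ≫ φT) g ≫ p' :=
    s1.isoPullback_hom_fst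
  have hJ'2 : J' ≫ pullback.snd (fC ≫ φ) (g ≫ t) = pullback.snd (fT ≫ φT) g :=
    s1.isoPullback_hom_snd
  let J : pullback φT g ⟶ pullback φ (g ≫ t) := s2.isoPullback.hom
  have hJ1 : J ≫ pullback.fst φ (g ≫ t) = pullback.fst φT g ≫ c := s2.isoPullback_hom_fst
  have hJ2 : J ≫ pullback.snd φ (g ≫ t) = pullback.snd φT g := s2.isoPullback_hom_snd
  have hJo : IsIso J := inferInstanceAs (IsIso s2.isoPullback.hom)
  have hJo' : IsIso J' := inferInstanceAs (IsIso s1.isoPullback.hom)
  have hcomm : J' ≫ CInt.baseChangeOver fC φ (g ≫ t) = CInt.baseChangeOver fT φT g ≫ J := by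
    apply pullback.hom_ext
    · calc (J' ≫ CInt.baseChangeOver fC φ (g ≫ t)) ≫ pullback.fst φ (g ≫ t)
          = J' ≫ CInt.baseChangeOver fC φ (g ≫ t) ≫ pullback.fst φ (g ≫ t) := Category.assoc _ _ _
        _ = J' ≫ pullback.fst (fC ≫ φ) (g ≫ t) ≫ fC :=
          congrArg (J' ≫ ·) (SSRestrict.baseChangeOver_fst fC φ (g ≫ t))
        _ = (J' ≫ pullback.fst (fC ≫ φ) (g ≫ t)) ≫ fC := (Category.assoc _ _ _).symm
        _ = (pullback.fst (fT ≫ φT) g ≫ p') ≫ fC := congrArg (· ≫ fC) hJ'1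
        _ = pullback.fst (fT ≫ φT) g ≫ p' ≫ fC := Category.assoc _ _ _
        _ = pullback.fst (fT ≫ φT) g ≫ fT ≫ c := congrArg (pullback.fst (fT ≫ φT) g ≫ ·) sqC.w
        _ = (pullback.fst (fT ≫ φT) g ≫ fT) ≫ c := (Category.assoc _ _ _).symm
        _ = (CInt.baseChangeOver fT φT g ≫ pullback.fst φT g) ≫ c :=
          congrArg (· ≫ c) (SSRestrict.baseChangeOver_fst fT φT g).symm
        _ = CInt.baseChangeOver fT φT g ≫ pullback.fst φT g ≫ c := Category.assoc _ _ _
        _ = CInt.baseChangeOver fT φT g ≫ J ≫ pullback.fst φ (g ≫ t) :=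
          congrArg (CInt.baseChangeOver fT φT g ≫ ·) hJ1.symm
        _ = (CInt.baseChangeOver fT φT g ≫ J) ≫ pullback.fst φ (g ≫ t) :=
          (Category.assoc _ _ _).symm
    · rw [Category.assoc, SSRestrict.baseChangeOver_snd, hJ'2, Category.assoc, hJ2,
        SSRestrict.baseChangeOver_snd]
  have hsq : IsPullback (inv J') (CInt.baseChangeOver fC φ (g ≫ t)) (CInt.baseChangeOver fT φT g) (inv J) :=
    IsPullback.of_horiz_isIso ⟨by rw [IsIso.inv_comp_eq, ← Category.assoc, hcomm, Category.assoc, IsIso.hom_inv_id,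
      Category.comp_id]⟩
  have hft : IsProper fT := MorphismProperty.of_isPullback sqC ‹IsProper fC›
  have hlft : LocallyOfFiniteType φT := MorphismProperty.of_isPullback sq ‹_›
  have hp : IsProper (CInt.baseChangeOver fT φT g) :=
    MorphismProperty.of_isPullback (SSRestrict.isPullback_baseChangeOver fT φT g) hft
  obtain ⟨h1, h2⟩ := SSRestrict.isExcComp_image (Ω := Ω) (f := CInt.baseChangeOver fT φT g)
    (q := pullback.snd φT g) hsq (M' := (pullback.fst (fT ≫ φT) g).base ⁻¹' Set.range iT.base)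
    (M := (pullback.fst (fC ≫ φ) (g ≫ t)).base ⁻¹' Set.range i'.base)
    (q' := pullback.snd (fT ≫ φT) g) (qY := pullback.snd (fC ≫ φ) (g ≫ t)) (fun y => by
      rw [Set.mem_preimage, Set.mem_preimage, hr, Set.mem_preimage]
      have : p'.base ((pullback.fst (fT ≫ φT) g).base ((inv J') y)) =
          (pullback.fst (fC ≫ φ) (g ≫ t)).base y := by
        have h3 : inv J' ≫ pullback.fst (fT ≫ φT) g ≫ p' = pullback.fst (fC ≫ φ) (g ≫ t) := by
          rw [IsIso.inv_comp_eq, hJ'1]
        have h := congrArg (fun f => f.base y) h3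
        simpa using h
      rw [this]) hZ (by rw [IsIso.eq_inv_comp, hJ'2]) hexc
  exact h Ω g _ h1 h2

end general

end K62.DescStable
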