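import Mathlib.Algebra.Category.Ring.Constructions
import Mathlib.RingTheory.Flat.FaithfullyFlat.Algebra
import Mathlib.RingTheory.IsTensorProduct
import Mathlib.RingTheory.RingHom.Flat

/-!
# Gluing along a dense extension: the algebra

`R → R'` flat with `R' = R + d R'` for the `d` in a set `D`; `B` over `R'`, `B₀` over `R` with `j : B → E` injective,
`E = R' ⊗ B₀`, and every `v ∈ B₀` has `d v ∈ B` for some `d ∈ D`. Then `B' = B ×_E B₀` satisfies `R' ⊗ B' = B`.
-/

set_option autoImplicit false
universe u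

open TensorProduct CategoryTheory CategoryTheory.Limits

namespace K62.GlueAlg

section

variable {R R' B B₀ E : Type u} [CommRing R] [CommRing R'] [CommRing B] [CommRing B₀] [CommRing E]

/-- `B ×_E B₀`. -/
abbrev P (j : B →+* E) (k : B₀ →+* E) : Subring (B × B₀) :=
  RingHom.eqLocus (j.comp (RingHom.fst B B₀)) (k.comp (RingHom.snd B B₀))

/-- The first projection. -/
def p₁ (j : B →+* E) (k : B₀ →+* E) : P j k →+* B := (RingHom.fst B B₀).comp (P j k).subtype

/-- The second projection. -/
def p₂ (j : B →+* E) (k : B₀ →+* E) : P j k →+* B₀ := (RingHom.snd B B₀).comp (P j k).subtype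

theorem comp_eq (j : B →+* E) (k : B₀ →+* E) (x : P j k) : j (p₁ j k x) = k (p₂ j k x) := x.2

/-- The lift. -/
def lift {A : Type u} [CommRing A] (j : B →+* E) (k : B₀ →+* E) (a : A →+* B) (b : A →+* B₀)
    (h : ∀ x, j (a x) = k (b x)) : A →+* P j k := (a.prod b).codRestrict (P j k) h

theorem p₁_lift {A : Type u} [CommRing A] (j : B →+* E) (k : B₀ →+* E) (a : A →+* B) (b : A →+* B₀)
    (h : ∀ x, j (a x) = k (b x)) (x : A) : p₁ j k (lift j k a b h x) = a x := rfl

theorem p₂_lift {A : Type u} [CommRing A] (j : B →+* E) (k : B₀ →+* E) (a : A →+* B) (b : A →+* B₀)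
    (h : ∀ x, j (a x) = k (b x)) (x : A) : p₂ j k (lift j k a b h x) = b x := rfl

theorem ext {j : B →+* E} {k : B₀ →+* E} {x y : P j k} (h₁ : p₁ j k x = p₁ j k y) (h₂ : p₂ j k x = p₂ j k y) :
    x = y := Subtype.ext (Prod.ext h₁ h₂)

theorem isPushout (a : R →+* R') (f : R' →+* B) (g : R →+* B₀) (j : B →+* E) (k : B₀ →+* E)
    (hpo : IsPushout (CommRingCat.ofHom a) (CommRingCat.ofHom g) (CommRingCat.ofHom (j.comp f)) (CommRingCat.ofHom k))
    (hflat : a.Flat) (hj : Function.Injective j) (D : Set R)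
    (hD : ∀ v : B₀, ∃ d ∈ D, ∃ b : B, j b = k (g d * v))
    (happ : ∀ x : R', ∀ d ∈ D, ∃ (c : R) (y : R'), x = a c + a d * y)
    (h : ∀ x, j ((f.comp a) x) = k (g x)) :
    IsPushout (CommRingCat.ofHom a) (CommRingCat.ofHom (lift j k (f.comp a) g h)) (CommRingCat.ofHom f)
      (CommRingCat.ofHom (p₁ j k)) := by
  let _ : Algebra R R' := a.toAlgebra
  let _ : Algebra R B₀ := g.toAlgebra
  let _ : Algebra R' B := f.toAlgebra
  let _ : Algebra R' E := (j.comp f).toAlgebra
  let _ : Algebra B₀ E := k.toAlgebra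
  let _ : Algebra B E := j.toAlgebra
  let _ : Algebra R E := (k.comp g).toAlgebra
  let _ : Algebra R B := (f.comp a).toAlgebra
  let _ : Algebra R (P j k) := (lift j k (f.comp a) g h).toAlgebra
  let _ : Algebra (P j k) B := (p₁ j k).toAlgebra
  let _ : Algebra (P j k) B₀ := (p₂ j k).toAlgebra
  have t1 : IsScalarTower R B₀ E := .of_algebraMap_eq fun _ => rfl
  have t2 : IsScalarTower R R' E := .of_algebraMap_eq fun r => congr($(hpo.w) r).symm
  have t3 : IsScalarTower R R' B := .of_algebraMap_eq fun _ => rfl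
  have t4 : IsScalarTower R (P j k) B := .of_algebraMap_eq fun _ => rfl
  have t5 : IsScalarTower R (P j k) B₀ := .of_algebraMap_eq fun _ => rfl
  have t6 : IsScalarTower R' B E := .of_algebraMap_eq fun _ => rfl
  have hfl : Module.Flat R R' := hflat
  have h1 : Algebra.IsPushout R R' B₀ E := CommRingCat.isPushout_iff_isPushout.1 hpo
  refine CommRingCat.isPushout_iff_isPushout.2 ⟨?_⟩
  -- the comparison maps
  let eE : R' ⊗[R] B₀ →ₗ[R'] E := LinearMap.liftBaseChange R' (IsScalarTower.toAlgHom R B₀ E).toLinearMap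
  have heE : Function.Bijective eE := h1.out
  let eB : R' ⊗[R] P j k →ₗ[R'] B := LinearMap.liftBaseChange R' (IsScalarTower.toAlgHom R (P j k) B).toLinearMap
  have heEt : ∀ (x : R') (v : B₀), eE (x ⊗ₜ v) = j (f x) * k v := fun x v => by
    rw [LinearMap.liftBaseChange_tmul, Algebra.smul_def]; rfl
  have heBt : ∀ (x : R') (b : P j k), eB (x ⊗ₜ b) = f x * p₁ j k b := fun x v => by
    rw [LinearMap.liftBaseChange_tmul, Algebra.smul_def]; rfl
  change Function.Bijective eB
  constructor
  · let s : P j k →ₗ[R] B₀ := (IsScalarTower.toAlgHom R (P j k) B₀).toLinearMap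
    have hs : Function.Injective s := by
      intro x y hxy
      refine ext (hj ?_) hxy
      rw [comp_eq, comp_eq]
      exact congrArg k hxy
    have h2 : Function.Injective (s.lTensor R') := Module.Flat.lTensor_preserves_injective_linearMap s hs
    have h3 : ∀ t, eE (s.lTensor R' t) = j (eB t) := by
      intro t
      induction t using TensorProduct.induction_on with
      | zero => rw [map_zero, map_zero, map_zero, map_zero]
      | add x y hx hy => rw [map_add, map_add, map_add, map_add, hx, hy]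
      | tmul x b =>
        rw [LinearMap.lTensor_tmul, heEt, heBt, map_mul, comp_eq]
        rfl
    intro x y hxy
    apply h2
    apply heE.1
    rw [h3, h3, hxy]
  · intro b
    have key : ∀ t : R' ⊗[R] B₀, ∃ (v : B₀) (s : R' ⊗[R] P j k), eE t = k v + j (eB s) := by
      intro t
      induction t using TensorProduct.induction_on with
      | zero => exact ⟨0, 0, by simp only [map_zero, add_zero]⟩
      | add x y hx hy =>
        obtain ⟨v, s, h⟩ := hx
        obtain ⟨v', s', h'⟩ := hy
        refine ⟨v + v', s + s', ?_⟩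
        rw [map_add, h, h', map_add, map_add, map_add]
        ring
      | tmul x v =>
        obtain ⟨d, hd, b, hb⟩ := hD v
        obtain ⟨c, y, hxy⟩ := happ x d hd
        refine ⟨g c * v, y ⊗ₜ ⟨(b, g d * v), hb⟩, ?_⟩
        rw [heEt, heBt, hxy]
        change _ = _ + j (f y * b)
        have h5 : ∀ r : R, j (f (a r)) = k (g r) := h
        rw [map_add, map_add, map_mul, map_mul, h5, h5, map_mul j (f y) b, hb, map_mul, map_mul]
        ring
    obtain ⟨t, ht⟩ := heE.2 (j b)
    obtain ⟨v, s, hs⟩ := key t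
    rw [ht] at hs
    have h4 : j (b - eB s) = k v := by rw [map_sub, hs]; ring
    refine ⟨1 ⊗ₜ ⟨(b - eB s, v), h4⟩ + s, ?_⟩
    rw [map_add, heBt, map_one, one_mul]
    change b - eB s + eB s = b
    ring

end

end K62.GlueAlg
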