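import Groth.Agent.SSMod.K62.GlueAlg
import Groth.Agent.FlatMor.K263.GenFibre
import Groth.Agent.FlatMor.K263.PushBC
import Groth.Agent.Sga7.H331.DirGlue
import Groth.Agent.S0082

/-!
# Descent of a flat scheme along a dense homeomorphic extension, given its generic fibre
-/

set_option autoImplicit false
universe u

open CategoryTheory CategoryTheory.Limits AlgebraicGeometry TopologicalSpace

namespace K62.GlueSch

/-- `T → S` faithfully flat with `O_T = O_S + d O_T` for `d ≠ 0`; `X → C_T → T` flat, `X_η = C_η ×_S T`. -/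
structure Sit where
  (S T C CT X Cη Xη : Scheme.{u})
  [intS : IsIntegral S]
  [affS : IsAffine S]
  [affT : IsAffine T]
  (φ : C ⟶ S) (t : T ⟶ S) (c : CT ⟶ C) (φT : CT ⟶ T) (f : X ⟶ CT) (jC : Cη ⟶ C) (jX : Xη ⟶ X) (ρ : Xη ⟶ Cη)
  (qX : Xη ⟶ Spec (S.presheaf.stalk (genericPoint S)))
  [flatt : Flat t]
  [surjt : Surjective t]
  [flatX : Flat (f ≫ φT)]
  [affj : IsAffineHom jX]
  sqC : IsPullback c φT φ t
  hX : IsPullback jX qX ((f ≫ c) ≫ φ) (S.fromSpecStalk (genericPoint S))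
  w : ρ ≫ jC = jX ≫ f ≫ c
  hρ : IsPullback ρ (jX ≫ f ≫ φT) (jC ≫ φ) t
  homeo : IsHomeomorph ρ.base
  dense : ∀ (x : Γ(T, ⊤)) (d : Γ(S, ⊤)), d ≠ 0 →
    ∃ (a : Γ(S, ⊤)) (y : Γ(T, ⊤)), x = t.appLE ⊤ ⊤ (by simp) a + t.appLE ⊤ ⊤ (by simp) d * y

attribute [instance] Sit.intS Sit.affS Sit.affT Sit.flatt Sit.surjt Sit.flatX Sit.affj

namespace Sit

variable (D : Sit.{u})

/-- The open of the generic fibre of `C`. -/
def V (U : D.X.Opens) : D.Cη.Opens :=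
  ⟨D.ρ.base '' (D.jX ⁻¹ᵁ U : Set D.Xη), D.homeo.isOpenMap _ (D.jX ⁻¹ᵁ U).isOpen⟩

theorem preimage_V (U : D.X.Opens) : D.ρ ⁻¹ᵁ D.V U = D.jX ⁻¹ᵁ U := by
  ext x
  constructor
  · rintro ⟨y, hy, hxy⟩
    have := D.homeo.injective hxy
    rw [← this]
    exact hy
  · intro hx
    exact ⟨x, hx, rfl⟩

theorem V_mono {U U' : D.X.Opens} (h : U ≤ U') : D.V U ≤ D.V U' := by
  rintro _ ⟨x, hx, rfl⟩
  exact ⟨x, h hx, rfl⟩

theorem surjective_ρ (z : D.Cη) : ∃ x : D.Xη, D.ρ x = z := D.homeo.surjective z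

theorem V_le {U : D.X.Opens} {W : D.C.Opens} (h : U ≤ (D.f ≫ D.c) ⁻¹ᵁ W) : D.V U ≤ D.jC ⁻¹ᵁ W := by
  rintro _ ⟨x, hx, rfl⟩
  have h1 := h hx
  change D.jC (D.ρ x) ∈ W
  rw [← Scheme.Hom.comp_apply, D.w]
  exact h1

/-- The ring map from `Γ(X, U)`. -/
abbrev jj (U : D.X.Opens) : Γ(D.X, U) →+* Γ(D.Xη, D.jX ⁻¹ᵁ U) := (D.jX.appLE U (D.jX ⁻¹ᵁ U) le_rfl).hom

/-- The ring map from `Γ(Cη, V)`. -/
abbrev kk (U : D.X.Opens) : Γ(D.Cη, D.V U) →+* Γ(D.Xη, D.jX ⁻¹ᵁ U) :=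
  (D.ρ.appLE (D.V U) (D.jX ⁻¹ᵁ U) (D.preimage_V U).ge).hom

/-- The ring. -/
abbrev PP (U : D.X.Opens) : CommRingCat.{u} := CommRingCat.of (GlueAlg.P (D.jj U) (D.kk U))

/-- First projection. -/
abbrev pp₁ (U : D.X.Opens) : D.PP U ⟶ Γ(D.X, U) := CommRingCat.ofHom (GlueAlg.p₁ (D.jj U) (D.kk U))

/-- Second projection. -/
abbrev pp₂ (U : D.X.Opens) : D.PP U ⟶ Γ(D.Cη, D.V U) := CommRingCat.ofHom (GlueAlg.p₂ (D.jj U) (D.kk U))

theorem pp_comm (U : D.X.Opens) : D.pp₁ U ≫ D.jX.appLE U (D.jX ⁻¹ᵁ U) le_rfl =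
    D.pp₂ U ≫ D.ρ.appLE (D.V U) (D.jX ⁻¹ᵁ U) (D.preimage_V U).ge := by
  ext x
  exact GlueAlg.comp_eq _ _ x

/-- The universal map. -/
def lft (U : D.X.Opens) {A : CommRingCat.{u}} (a : A ⟶ Γ(D.X, U)) (b : A ⟶ Γ(D.Cη, D.V U))
    (h : a ≫ D.jX.appLE U (D.jX ⁻¹ᵁ U) le_rfl = b ≫ D.ρ.appLE (D.V U) (D.jX ⁻¹ᵁ U) (D.preimage_V U).ge) :
    A ⟶ D.PP U :=
  CommRingCat.ofHom (GlueAlg.lift (D.jj U) (D.kk U) a.hom b.hom fun x => congr($(h) x))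

@[reassoc (attr := simp)]
theorem lft_pp₁ (U : D.X.Opens) {A : CommRingCat.{u}} (a : A ⟶ Γ(D.X, U)) (b : A ⟶ Γ(D.Cη, D.V U))
    (h : a ≫ D.jX.appLE U (D.jX ⁻¹ᵁ U) le_rfl = b ≫ D.ρ.appLE (D.V U) (D.jX ⁻¹ᵁ U) (D.preimage_V U).ge) :
    D.lft U a b h ≫ D.pp₁ U = a := rfl

@[reassoc (attr := simp)]
theorem lft_pp₂ (U : D.X.Opens) {A : CommRingCat.{u}} (a : A ⟶ Γ(D.X, U)) (b : A ⟶ Γ(D.Cη, D.V U))
    (h : a ≫ D.jX.appLE U (D.jX ⁻¹ᵁ U) le_rfl = b ≫ D.ρ.appLE (D.V U) (D.jX ⁻¹ᵁ U) (D.preimage_V U).ge) :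
    D.lft U a b h ≫ D.pp₂ U = b := rfl

theorem pp_ext {U : D.X.Opens} {A : CommRingCat.{u}} {a b : A ⟶ D.PP U} (h₁ : a ≫ D.pp₁ U = b ≫ D.pp₁ U)
    (h₂ : a ≫ D.pp₂ U = b ≫ D.pp₂ U) : a = b :=
  CommRingCat.hom_ext (RingHom.ext fun x => GlueAlg.ext congr($(h₁) x) congr($(h₂) x))

/-- Restriction. -/
def rs {U U' : D.X.Opens} (h : U ≤ U') : D.PP U' ⟶ D.PP U :=
  D.lft U (D.pp₁ U' ≫ D.X.presheaf.map (homOfLE h).op) (D.pp₂ U' ≫ D.Cη.presheaf.map (homOfLE (D.V_mono h)).op) (by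
    have h0 : D.jX ⁻¹ᵁ U ≤ D.jX ⁻¹ᵁ U' := fun x hx => h hx
    have h1 := congr($(D.pp_comm U') ≫ D.Xη.presheaf.map (homOfLE h0).op)
    rw [Category.assoc, Category.assoc, Scheme.Hom.appLE_map, Scheme.Hom.appLE_map] at h1
    rw [Category.assoc, Category.assoc, Scheme.Hom.map_appLE, Scheme.Hom.map_appLE]
    exact h1)

@[reassoc]
theorem rs_pp₁ {U U' : D.X.Opens} (h : U ≤ U') : D.rs h ≫ D.pp₁ U = D.pp₁ U' ≫ D.X.presheaf.map (homOfLE h).op :=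
  rfl

@[reassoc]
theorem rs_pp₂ {U U' : D.X.Opens} (h : U ≤ U') :
    D.rs h ≫ D.pp₂ U = D.pp₂ U' ≫ D.Cη.presheaf.map (homOfLE (D.V_mono h)).op := rfl

theorem rs_refl (U : D.X.Opens) : D.rs (le_refl U) = 𝟙 _ := by
  refine D.pp_ext ?_ ?_
  · rw [rs_pp₁, Category.id_comp]
    erw [CategoryTheory.Functor.map_id]
    rw [Category.comp_id]
  · rw [rs_pp₂, Category.id_comp]
    erw [CategoryTheory.Functor.map_id]
    rw [Category.comp_id]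

theorem rs_trans {U U' U'' : D.X.Opens} (h : U ≤ U') (h' : U' ≤ U'') : D.rs (h.trans h') = D.rs h' ≫ D.rs h := by
  refine D.pp_ext ?_ ?_
  · rw [rs_pp₁, Category.assoc, rs_pp₁, rs_pp₁_assoc, ← Functor.map_comp]
    rfl
  · rw [rs_pp₂, Category.assoc, rs_pp₂, rs_pp₂_assoc, ← Functor.map_comp]
    rfl

/-- The index set. -/
def J : Type u := {U : D.X.affineOpens // ∃ W : D.C.affineOpens, (U : D.X.Opens) ≤ (D.f ≫ D.c) ⁻¹ᵁ (W : D.C.Opens)}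

instance : Preorder D.J := inferInstanceAs (Preorder {U : D.X.affineOpens // _})

/-- The open. -/
abbrev op (i : D.J) : D.X.Opens := i.1.1

theorem isAffineOpen (i : D.J) : IsAffineOpen (D.op i) := i.1.2

/-- The diagram downstairs. -/
noncomputable def F : D.J ⥤ Scheme.{u} where
  obj i := Spec (D.PP (D.op i))
  map {i j} h := Spec.map (D.rs (show D.op i ≤ D.op j from leOfHom h))
  map_id i := by rw [rs_refl]; exact Spec.map_id _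
  map_comp {i j k} h h' := by
    rw [← Spec.map_comp, ← rs_trans]

/-- The diagram upstairs. -/
noncomputable def G : D.J ⥤ Scheme.{u} where
  obj i := Spec Γ(D.X, D.op i)
  map {i j} h := Spec.map (D.X.presheaf.map (homOfLE (show D.op i ≤ D.op j from leOfHom h)).op)
  map_id i := by
    have : (homOfLE (le_refl (D.op i))).op = 𝟙 _ := rfl
    rw [this, CategoryTheory.Functor.map_id]
    exact Spec.map_id _
  map_comp {i j k} h h' := by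
    rw [← Spec.map_comp, ← Functor.map_comp]
    rfl

/-- The transformation. -/
noncomputable def α : D.G ⟶ D.F where
  app i := Spec.map (D.pp₁ (D.op i))
  naturality {i j} h := by
    change Spec.map _ ≫ Spec.map _ = Spec.map _ ≫ Spec.map _
    rw [← Spec.map_comp, ← Spec.map_comp, rs_pp₁]

/-- The charts of `X`. -/
noncomputable def gg (i : D.J) : D.G.obj i ⟶ D.X := (D.isAffineOpen i).fromSpec

instance (i : D.J) : IsOpenImmersion (D.gg i) := (D.isAffineOpen i).isOpenImmersion_fromSpec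

theorem map_gg {i j : D.J} (a : i ⟶ j) : D.G.map a ≫ D.gg j = D.gg i :=
  (D.isAffineOpen j).map_fromSpec (D.isAffineOpen i) _

theorem range_gg (i : D.J) (y : D.X) : y ∈ Set.range (D.gg i) ↔ y ∈ D.op i := by
  have := (D.isAffineOpen i).range_fromSpec
  change y ∈ Set.range (D.isAffineOpen i).fromSpec ↔ _
  rw [this]
  rfl

theorem gg_injective (i : D.J) : Function.Injective (D.gg i) := (D.gg i).isOpenEmbedding.injective

theorem dir (i j : D.J) (x : D.G.obj i) (x' : D.G.obj j) (h : D.gg i x = D.gg j x') :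
    ∃ (l : D.J) (a : l ⟶ i) (b : l ⟶ j) (z : D.G.obj l), D.G.map a z = x ∧ D.G.map b z = x' := by
  have hy : D.gg i x ∈ ((D.op i ⊓ D.op j : D.X.Opens) : Set D.X) :=
    ⟨(D.range_gg i _).1 ⟨x, rfl⟩, (D.range_gg j _).1 ⟨x', h.symm⟩⟩
  obtain ⟨_, ⟨U, hU, rfl⟩, hyU, hUW⟩ :=
    D.X.isBasis_affineOpens.exists_subset_of_mem_open hy (D.op i ⊓ D.op j).isOpen
  have hUi : U ≤ D.op i := fun z hz => (hUW hz).1
  have hUj : U ≤ D.op j := fun z hz => (hUW hz).2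
  obtain ⟨W, hW⟩ := i.2
  obtain ⟨l, hl⟩ : ∃ l : D.J, D.op l = U := ⟨⟨⟨U, hU⟩, W, hUi.trans hW⟩, rfl⟩
  subst hl
  obtain ⟨z, hz⟩ := (D.range_gg l _).2 hyU
  refine ⟨l, homOfLE hUi, homOfLE hUj, z, D.gg_injective i ?_, D.gg_injective j ?_⟩
  · rw [← Scheme.Hom.comp_apply, map_gg, hz]
  · rw [← Scheme.Hom.comp_apply, map_gg, hz, h]

theorem exists_mem (y : D.X) : ∃ i : D.J, y ∈ D.op i := by
  obtain ⟨_, ⟨W, hW, rfl⟩, hyW, -⟩ :=
    D.C.isBasis_affineOpens.exists_subset_of_mem_open (Set.mem_univ ((D.f ≫ D.c) y)) isOpen_univ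
  obtain ⟨_, ⟨U, hU, rfl⟩, hyU, hUW⟩ :=
    D.X.isBasis_affineOpens.exists_subset_of_mem_open (show y ∈ ((D.f ≫ D.c) ⁻¹ᵁ W : Set D.X) from hyW)
      ((D.f ≫ D.c) ⁻¹ᵁ W).isOpen
  exact ⟨⟨⟨U, hU⟩, ⟨W, hW⟩, hUW⟩, hyU⟩

/-- The covering of `X`. -/
noncomputable def cov : Groth.Agent.Sga7.H331.DirGlue.DirCover D.X D.J where
  G := D.G
  g := D.gg
  w a := D.map_gg a
  op i := inferInstance
  surj y := by
    obtain ⟨i, hi⟩ := D.exists_mem y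
    obtain ⟨x, hx⟩ := (D.range_gg i y).2 hi
    exact ⟨i, x, hx⟩
  dir := D.dir

end Sit

end K62.GlueSch
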