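import Groth.Agent.FlatMor.K263.RFSep
import Groth.Agent.FlatMor.K263.EtaUniq
import Mathlib.AlgebraicGeometry.Morphisms.UniversallyInjective
import Mathlib.AlgebraicGeometry.Morphisms.Integral

/-!
# The extension `R → R^a` of a valuation ring with separably closed fraction field
-/

set_option autoImplicit false
universe u

open CategoryTheory CategoryTheory.Limits AlgebraicGeometry

namespace K62.TExt

/-- The properties of `t : T ⟶ S` which are used. -/
structure Good {S T : Scheme.{u}} [IsIntegral S] [IsIntegral T] (t : T ⟶ S) : Prop where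
  flat : Flat t
  surj : Surjective t
  int : IsIntegralHom t
  inj : UniversallyInjective t
  gen : t (genericPoint T) = genericPoint S
  gpb : ∃ κ : Spec (T.presheaf.stalk (genericPoint T)) ⟶ Spec (S.presheaf.stalk (genericPoint S)),
    IsPullback (T.fromSpecStalk (genericPoint T)) κ t (S.fromSpecStalk (genericPoint S))
  dense : ∀ (x : Γ(T, ⊤)) (d : Γ(S, ⊤)), d ≠ 0 →
    ∃ (a : Γ(S, ⊤)) (y : Γ(T, ⊤)), x = t.appLE ⊤ ⊤ (by simp) a + t.appLE ⊤ ⊤ (by simp) d * y

section generic

variable (R R' : Type u) [CommRing R] [IsDomain R] [CommRing R'] [IsDomain R'] [Algebra R R']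

theorem gen (hinj : Function.Injective (algebraMap R R')) :
    Spec.map (CommRingCat.ofHom (algebraMap R R')) (genericPoint (Spec (CommRingCat.of R'))) =
      genericPoint (Spec (CommRingCat.of R)) := by
  have h1 : genericPoint (Spec (CommRingCat.of R')) = (⊥ : PrimeSpectrum R') :=
    genericPoint_eq_bot_of_affine (CommRingCat.of R')
  have h2 : genericPoint (Spec (CommRingCat.of R)) = (⊥ : PrimeSpectrum R) :=
    genericPoint_eq_bot_of_affine (CommRingCat.of R)
  rw [h1, h2]
  change PrimeSpectrum.comap (algebraMap R R') ⊥ = ⊥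
  ext x
  rw [PrimeSpectrum.comap_asIdeal]
  change algebraMap R R' x ∈ (⊥ : Ideal R') ↔ x ∈ (⊥ : Ideal R)
  rw [Ideal.mem_bot, Ideal.mem_bot, map_eq_zero_iff _ hinj]

theorem gpb (hinj : Function.Injective (algebraMap R R'))
    (hdvd : ∀ x : R', x ≠ 0 → ∃ r : R, r ≠ 0 ∧ x ∣ algebraMap R R' r) :
    ∃ κ : Spec ((Spec (CommRingCat.of R')).presheaf.stalk (genericPoint _)) ⟶
        Spec ((Spec (CommRingCat.of R)).presheaf.stalk (genericPoint _)),
      IsPullback ((Spec (CommRingCat.of R')).fromSpecStalk (genericPoint _)) κ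
        (Spec.map (CommRingCat.ofHom (algebraMap R R')))
        ((Spec (CommRingCat.of R)).fromSpecStalk (genericPoint _)) := by
  obtain ⟨κ, hκ⟩ := K263.EtaUniq.exists_generic (Spec.map (CommRingCat.ofHom (algebraMap R R'))) (gen R R' hinj)
  refine ⟨κ, ?_⟩
  obtain ⟨k0, rfl⟩ := Spec.map_surjective κ
  let K := (Spec (CommRingCat.of R)).presheaf.stalk (genericPoint _)
  let K' := (Spec (CommRingCat.of R')).presheaf.stalk (genericPoint _)
  let c : CommRingCat.of R ⟶ K := StructureSheaf.toStalk R (genericPoint (Spec (CommRingCat.of R)))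
  let c' : CommRingCat.of R' ⟶ K' := StructureSheaf.toStalk R' (genericPoint (Spec (CommRingCat.of R')))
  have hc : (Spec (CommRingCat.of R)).fromSpecStalk (genericPoint _) = Spec.map c := Spec.fromSpecStalk_eq' _ _
  have hc' : (Spec (CommRingCat.of R')).fromSpecStalk (genericPoint _) = Spec.map c' := Spec.fromSpecStalk_eq' _ _
  rw [hc, hc'] at hκ ⊢
  rw [← Spec.map_comp, ← Spec.map_comp] at hκ
  have hw := Spec.map_injective hκ
  have hfr : @IsFractionRing R _ K _ c.hom.toAlgebra := functionField_isFractionRing_of_affine (CommRingCat.of R)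
  have hfr' : @IsFractionRing R' _ K' _ c'.hom.toAlgebra := functionField_isFractionRing_of_affine (CommRingCat.of R')
  apply isPullback_SpecMap_of_isPushout
  let _ : Algebra R K := c.hom.toAlgebra
  let _ : Algebra R' K' := c'.hom.toAlgebra
  let _ : Algebra K K' := k0.hom.toAlgebra
  let _ : Algebra R K' := (k0.hom.comp c.hom).toAlgebra
  have t1 : IsScalarTower R K K' := .of_algebraMap_eq fun _ => rfl
  have t2 : IsScalarTower R R' K' := .of_algebraMap_eq fun r => congr($(hw) r)
  have h1 : IsLocalization (Algebra.algebraMapSubmonoid R' (nonZeroDivisors R)) K' := by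
    rw [IsLocalization.iff_of_le_of_exists_dvd _ (nonZeroDivisors R')]
    · exact hfr'
    · rintro _ ⟨r, hr, rfl⟩
      rw [mem_nonZeroDivisors_iff_ne_zero, Ne, map_eq_zero_iff _ hinj]
      exact nonZeroDivisors.ne_zero hr
    · intro x hx
      obtain ⟨r, hr, hxr⟩ := hdvd x (nonZeroDivisors.ne_zero hx)
      exact ⟨_, ⟨r, mem_nonZeroDivisors_of_ne_zero hr, rfl⟩, hxr⟩
  have h2 : Algebra.IsPushout R R' K K' :=
    (Algebra.isLocalization_iff_isPushout (R := R) (nonZeroDivisors R) (A := K) (T := R') (B := K')).1 h1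
  exact CommRingCat.isPushout_iff_isPushout.2 h2

end generic

section main

variable (R K L : Type u) [CommRing R] [IsDomain R] [Field K] [Algebra R K] [IsFractionRing R K]
  [Field L] [Algebra K L] [Algebra R L] [IsScalarTower R K L] [Algebra.IsAlgebraic K L]
  [ValuationRing R] [IsSepClosed K]

open K263.RFSep

include K in
theorem algebraMap_injective : Function.Injective (algebraMap R (integralClosure R L)) := fun a b h =>
  injective R K L (congrArg Subtype.val h)

include K in
theorem exists_dvd (x : integralClosure R L) (hx : x ≠ 0) :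
    ∃ r : R, r ≠ 0 ∧ x ∣ algebraMap R (integralClosure R L) r := by
  obtain ⟨q, hq⟩ := ExpChar.exists K
  obtain ⟨n, a, ha⟩ := exists_pow R K L q x
  have hqn : q ^ n ≠ 0 := pow_ne_zero _ (expChar_pos K q).ne'
  have ha' : x ^ q ^ n = algebraMap R (integralClosure R L) a := Subtype.ext (by
    rw [SubmonoidClass.coe_pow, ha]; rfl)
  refine ⟨a, ?_, ?_⟩
  · rintro rfl
    rw [map_zero] at ha'
    exact hx (pow_eq_zero_iff hqn |>.1 ha')
  · rw [← ha']
    exact dvd_pow_self x hqn

include K in
theorem universallyInjective :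
    UniversallyInjective (Spec.map (CommRingCat.ofHom (algebraMap R (integralClosure R L)))) := by
  refine ((tfae_universallyInjective _).out 0 1 rfl rfl).2 fun Ω _ g₁ g₂ h => ?_
  obtain ⟨a, rfl⟩ := Spec.map_surjective g₁
  obtain ⟨b, rfl⟩ := Spec.map_surjective g₂
  dsimp only at h
  rw [← Spec.map_comp, ← Spec.map_comp] at h
  have h1 := Spec.map_injective h
  congr 1
  refine CommRingCat.hom_ext (RingHom.ext fun x => ?_)
  obtain ⟨q, hq⟩ := ExpChar.exists K
  obtain ⟨n, r, hr⟩ := exists_pow R K L q x
  have hr' : x ^ q ^ n = algebraMap R (integralClosure R L) r := Subtype.ext (by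
    rw [SubmonoidClass.coe_pow, hr]; rfl)
  have hR : ∀ r : R, a.hom (algebraMap R (integralClosure R L) r) = b.hom (algebraMap R (integralClosure R L) r) :=
    fun r => congr($(h1) r)
  have hpow : a.hom x ^ q ^ n = b.hom x ^ q ^ n := by
    rw [← map_pow, ← map_pow, hr', hR]
  cases hq with
  | zero => simpa using hpow
  | prime hp =>
    have h0 : (q : R) = 0 := IsFractionRing.injective R K (by rw [map_natCast, map_zero, CharP.cast_eq_zero])
    have h2 : (q : Ω) = 0 := by
      rw [← map_natCast (a.hom.comp (algebraMap R (integralClosure R L))) q, h0, map_zero]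
    have h3 : CharP Ω q := (CharP.charP_iff_prime_eq_zero hp).2 h2
    have h4 : ExpChar Ω q := .prime hp
    exact iterateFrobenius_inj Ω q n hpow

include K in
theorem good : haveI := valuationRing R K L
    Good (Spec.map (CommRingCat.ofHom (algebraMap R (integralClosure R L)))) := by
  have hinj := algebraMap_injective R K L
  have hff := faithfullyFlat R K L
  refine ⟨?_, ?_, ?_, universallyInjective R K L, gen _ _ hinj, gpb _ _ hinj (exists_dvd R K L), ?_⟩
  · rw [Flat.SpecMap_iff]
    exact (RingHom.flat_algebraMap_iff).2 inferInstance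
  · refine ⟨fun x => ?_⟩
    exact PrimeSpectrum.comap_surjective_of_faithfullyFlat (A := R) (B := integralClosure R L) x
  · rw [IsIntegralHom.SpecMap_iff]
    exact algebraMap_isIntegral_iff.2 inferInstance
  · intro x d hd
    let f := CommRingCat.ofHom (algebraMap R (integralClosure R L))
    let eS := Scheme.ΓSpecIso (CommRingCat.of R)
    let eT := Scheme.ΓSpecIso (CommRingCat.of (integralClosure R L))
    have hS : ∀ z, eS.inv (eS.hom z) = z := fun z => congr($(eS.hom_inv_id) z)
    have hT : ∀ z, eT.inv (eT.hom z) = z := fun z => congr($(eT.hom_inv_id) z)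
    have hd' : eS.hom d ≠ 0 := fun h => hd (by rw [← hS d, h, map_zero])
    obtain ⟨a, y, hxy⟩ := exists_approx R K L (eT.hom x) (eS.hom d) hd'
    have hnat : ∀ r : R, (Spec.map f).appLE ⊤ ⊤ (by simp) (eS.inv r) = eT.inv (f r) := by
      intro r
      have h1 := congr($(Scheme.ΓSpecIso_inv_naturality f) r)
      change eT.inv (f r) = (Spec.map f).appTop (eS.inv r) at h1
      rw [h1, Scheme.Hom.appTop, Scheme.Hom.app_eq_appLE]
      rfl
    refine ⟨eS.inv a, eT.inv y, ?_⟩
    rw [hnat, ← hS d, hnat, ← map_mul, ← map_add]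
    rw [← hT x]
    exact congrArg eT.inv hxy

end main

end K62.TExt
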